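import Groth.Agent.CAlgOdd.TorSymm.Snake

/-!
# Functorial free covers, their syzygies, and the balanced degree-one functor
-/

set_option autoImplicit false
set_option maxHeartbeats 400000

universe u

open CategoryTheory TensorProduct

namespace Groth.Agent.CAlgOdd.TorSymm

variable {R : Type u} [CommRing R]

/-- The free module on the elements. -/
noncomputable abbrev Fr (N : ModuleCat.{u} R) : ModuleCat.{u} R := ModuleCat.of R (N →₀ R)

/-- The tautological cover. -/
noncomputable def cov (N : ModuleCat.{u} R) : Fr N ⟶ N :=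
  ModuleCat.ofHom (Finsupp.linearCombination R id)

/-- The syzygy module. -/
noncomputable abbrev Sy (N : ModuleCat.{u} R) : ModuleCat.{u} R :=
  ModuleCat.of R (LinearMap.ker (cov N).hom)

/-- The inclusion of the syzygy module. -/
noncomputable def inc (N : ModuleCat.{u} R) : Sy N ⟶ Fr N :=
  ModuleCat.ofHom (LinearMap.ker (cov N).hom).subtype

theorem isPres (N : ModuleCat.{u} R) : IsPres (inc N).hom (cov N).hom :=
  ⟨Subtype.val_injective, LinearMap.exact_subtype_ker_map (cov N).hom,
    Finsupp.linearCombination_id_surjective R N, Module.Flat.of_free⟩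

/-- Functoriality of the cover. -/
noncomputable def frMap {M N : ModuleCat.{u} R} (f : M ⟶ N) : Fr M ⟶ Fr N :=
  ModuleCat.ofHom (Finsupp.lmapDomain R R f.hom)

theorem cov_frMap {M N : ModuleCat.{u} R} (f : M ⟶ N) :
    (cov N).hom ∘ₗ (frMap f).hom = f.hom ∘ₗ (cov M).hom := by
  refine Finsupp.lhom_ext fun a b => ?_
  simp [cov, frMap]

/-- Functoriality of the syzygy module. -/
noncomputable def syMap {M N : ModuleCat.{u} R} (f : M ⟶ N) : Sy M ⟶ Sy N :=
  ModuleCat.ofHom ((frMap f).hom.restrict (p := LinearMap.ker (cov M).hom) (q := LinearMap.ker (cov N).hom)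
    fun x hx => by
      rw [LinearMap.mem_ker] at hx ⊢
      rw [← LinearMap.comp_apply, cov_frMap, LinearMap.comp_apply, hx, map_zero])

theorem inc_syMap {M N : ModuleCat.{u} R} (f : M ⟶ N) :
    (inc N).hom ∘ₗ (syMap f).hom = (frMap f).hom ∘ₗ (inc M).hom := rfl

/-- The syzygy functor. -/
noncomputable def syF : ModuleCat.{u} R ⥤ ModuleCat.{u} R where
  obj N := Sy N
  map f := syMap f
  map_id N := ModuleCat.hom_ext (LinearMap.ext fun x => Subtype.ext (by
    show Finsupp.mapDomain id x.1 = _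
    rw [Finsupp.mapDomain_id]
    rfl))
  map_comp f g := ModuleCat.hom_ext (LinearMap.ext fun x => Subtype.ext (by
    show Finsupp.mapDomain (g.hom ∘ f.hom) x.1 = _
    rw [Finsupp.mapDomain_comp]
    rfl))

/-- The kernel of `M ⊗ K N → M ⊗ F N`. -/
noncomputable abbrev T1 (M N : ModuleCat.{u} R) : Submodule R (M ⊗[R] Sy N) :=
  LinearMap.ker ((inc N).hom.lTensor M)

theorem map_mem_T1 {M M' N N' : ModuleCat.{u} R} (f : M ⟶ M') (g : N ⟶ N') {x : M ⊗[R] Sy N}
    (hx : x ∈ T1 M N) : TensorProduct.map f.hom (syMap g).hom x ∈ T1 M' N' := by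
  rw [LinearMap.mem_ker] at hx ⊢
  rw [map_lTensor' _ _ _ _ _ (inc_syMap g) x, hx, map_zero]

/-- The degree-one functor. -/
noncomputable def t1 : ModuleCat.{u} R × ModuleCat.{u} R ⥤ ModuleCat.{u} R where
  obj P := ModuleCat.of R (T1 P.1 P.2)
  map {P Q} h := ModuleCat.ofHom
    ((TensorProduct.map h.1.hom (syMap h.2).hom).restrict fun _ hx => map_mem_T1 h.1 h.2 hx)
  map_id P := ModuleCat.hom_ext (LinearMap.ext fun x => Subtype.ext (by
    show TensorProduct.map (LinearMap.id) (syF.map (𝟙 P.2)).hom x.1 = x.1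
    rw [CategoryTheory.Functor.map_id]
    exact LinearMap.congr_fun TensorProduct.map_id x.1))
  map_comp {P Q S} f g := ModuleCat.hom_ext (LinearMap.ext fun x => Subtype.ext (by
    show TensorProduct.map (g.1.hom ∘ₗ f.1.hom) (syF.map (f.2 ≫ g.2)).hom x.1 = _
    rw [CategoryTheory.Functor.map_comp, ModuleCat.hom_comp, TensorProduct.map_comp]
    rfl))

theorem rel_map' {M M' N N' : ModuleCat.{u} R} (f : M ⟶ M') (g : N ⟶ N') {x : M ⊗[R] Sy N} {w : N ⊗[R] Sy M}
    (h : Rel (inc M).hom (cov M).hom (inc N).hom (cov N).hom x w) :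
    Rel (inc M').hom (cov M').hom (inc N').hom (cov N').hom
      (TensorProduct.map f.hom (syMap g).hom x) (TensorProduct.map g.hom (syMap f).hom w) :=
  rel_map _ _ _ _ _ _ (inc_syMap f) (cov_frMap f) (inc_syMap g) (cov_frMap g) h

/-- The degree-one functor is symmetric. -/
noncomputable def betaIso :
    (t1 : ModuleCat.{u} R × ModuleCat.{u} R ⥤ ModuleCat.{u} R) ≅ CategoryTheory.Prod.swap _ _ ⋙ t1 :=
  NatIso.ofComponents (fun P => (beta (isPres P.1) (isPres P.2)).toModuleIso) fun {P Q} h =>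
    ModuleCat.hom_ext (LinearMap.ext fun x => Subtype.ext
      (rel_unique (isPres Q.1) (isPres Q.2) (rel_beta (isPres Q.1) (isPres Q.2) ((t1.map h).hom x))
        (rel_map' h.1 h.2 (rel_beta (isPres P.1) (isPres P.2) x))))

/-- The braiding between the two kernels in `K M ⊗ K N`. -/
noncomputable def gamma (M N : ModuleCat.{u} R) : T1 (Sy M) N ≃ₗ[R] T1 (Sy N) M :=
  LinearEquiv.ofSubmodules (TensorProduct.comm R (Sy M) (Sy N)) _ _ (by
    ext w
    rw [Submodule.mem_map]
    constructor
    · rintro ⟨t, ht, rfl⟩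
      exact (ker_comm (isPres N) (isPres M) t).1 ht
    · intro hw
      refine ⟨(TensorProduct.comm R (Sy M) (Sy N)).symm w,
        LinearMap.mem_ker.2 ((ker_comm (isPres N) (isPres M) _).2 ?_), LinearEquiv.apply_symm_apply _ _⟩
      rw [LinearEquiv.apply_symm_apply]
      exact LinearMap.mem_ker.1 hw)

/-- The braiding, functorially. -/
noncomputable def gammaIso :
    (syF.prod (𝟭 (ModuleCat.{u} R))) ⋙ t1 ≅
      CategoryTheory.Prod.swap _ _ ⋙ (syF.prod (𝟭 (ModuleCat.{u} R))) ⋙ t1 :=
  NatIso.ofComponents (fun P => (gamma P.1 P.2).toModuleIso) fun {P Q} h => by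
    refine ModuleCat.hom_ext (LinearMap.ext fun x => Subtype.ext ?_)
    exact (TensorProduct.map_comm (syMap h.2).hom (syMap h.1).hom x.1).symm

/-- Dimension shifting. -/
noncomputable def shiftIso :
    ((𝟭 (ModuleCat.{u} R)).prod syF) ⋙ t1 ≅ (syF.prod (𝟭 (ModuleCat.{u} R))) ⋙ t1 :=
  Functor.isoWhiskerLeft ((𝟭 (ModuleCat.{u} R)).prod syF) betaIso ≪≫
    NatIso.ofComponents (fun P => Iso.refl _) (fun _ => (Category.comp_id _).trans (Category.id_comp _).symm) ≪≫
    (gammaIso (R := R)).symm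

end Groth.Agent.CAlgOdd.TorSymm
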