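import Groth.Agent.CAlgOdd.TorSymm.Basic
import Groth.Agent.NodeTor.Basic

/-!
# Symmetry of `Tor` as bifunctors
-/

set_option autoImplicit false
set_option maxHeartbeats 800000

universe u

open CategoryTheory Limits MonoidalCategory TensorProduct

namespace Groth.Agent.CAlgOdd.TorSymm

variable {R : Type u} [CommRing R]

/-- Iterated syzygies, last step outside. -/
noncomputable def KR : ℕ → (ModuleCat.{u} R ⥤ ModuleCat.{u} R)
  | 0 => 𝟭 _
  | n + 1 => KR n ⋙ syF

/-- Iterated syzygies, last step inside. -/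
noncomputable def KL : ℕ → (ModuleCat.{u} R ⥤ ModuleCat.{u} R)
  | 0 => 𝟭 _
  | n + 1 => syF ⋙ KL n

/-- The two iterates agree. -/
noncomputable def syComm : (n : ℕ) → (syF ⋙ KR (R := R) n ≅ KR n ⋙ syF)
  | 0 => Functor.rightUnitor _ ≪≫ (Functor.leftUnitor _).symm
  | n + 1 => (Functor.associator _ _ _).symm ≪≫ Functor.isoWhiskerRight (syComm n) syF

/-- The two iterates agree. -/
noncomputable def klIso : (n : ℕ) → (KL (R := R) n ≅ KR n)
  | 0 => Iso.refl _
  | n + 1 => Functor.isoWhiskerLeft syF (klIso n) ≪≫ syComm n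

/-- The differential of the functorial resolution. -/
noncomputable def resD (N : ModuleCat.{u} R) (n : ℕ) :
    Fr ((KR (n + 1)).obj N) ⟶ Fr ((KR n).obj N) :=
  cov ((KR (n + 1)).obj N) ≫ inc ((KR n).obj N)

theorem inc_cov (N : ModuleCat.{u} R) : inc N ≫ cov N = 0 :=
  ModuleCat.hom_ext (isPres N).exact.linearMap_comp_eq_zero

theorem resD_exact (N : ModuleCat.{u} R) (n : ℕ) :
    Function.Exact (resD N (n + 1)).hom (resD N n).hom := by
  intro x
  constructor
  · intro hx
    have h : (cov ((KR (n + 1)).obj N)).hom x = 0 := (isPres ((KR n).obj N)).inj (hx.trans (map_zero _).symm)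
    obtain ⟨y, hy⟩ := ((isPres ((KR (n + 1)).obj N)).exact x).1 h
    obtain ⟨z, hz⟩ := (isPres ((KR (n + 1 + 1)).obj N)).surj y
    refine ⟨z, ?_⟩
    show (inc ((KR (n + 1)).obj N)).hom ((cov ((KR (n + 1 + 1)).obj N)).hom z) = x
    rw [hz]
    exact hy
  · rintro ⟨z, rfl⟩
    exact (congrArg (inc ((KR n).obj N)).hom ((isPres ((KR (n + 1)).obj N)).exact.apply_apply_eq_zero
      ((cov ((KR (n + 1 + 1)).obj N)).hom z))).trans (map_zero _)

theorem resD_exact₀ (N : ModuleCat.{u} R) : Function.Exact (resD N 0).hom (cov N).hom := by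
  intro x
  constructor
  · intro hx
    obtain ⟨y, hy⟩ := ((isPres N).exact x).1 hx
    obtain ⟨z, hz⟩ := (isPres ((KR 1).obj N)).surj y
    refine ⟨z, ?_⟩
    show (inc N).hom ((cov ((KR 1).obj N)).hom z) = x
    rw [hz]
    exact hy
  · rintro ⟨z, rfl⟩
    exact (isPres N).exact.apply_apply_eq_zero _

/-- The functorial free resolution. -/
noncomputable def res (N : ModuleCat.{u} R) : ProjectiveResolution N :=
  NodeTor.resolution N (fun n => Fr ((KR n).obj N))
    (fun _ => (IsProjective.iff_projective _).1 inferInstance) (resD N)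
    (fun n => ModuleCat.hom_ext (LinearMap.ext (resD_exact N n).apply_apply_eq_zero))
    (cov N) (ModuleCat.hom_ext (LinearMap.ext (resD_exact₀ N).apply_apply_eq_zero))
    (isPres N).surj (resD_exact₀ N) (resD_exact N)

theorem res_d (N : ModuleCat.{u} R) (j : ℕ) : (res N).complex.d (j + 1) j = resD N j :=
  NodeTor.resolution_d _ _ _ _ _ _ _ _ _ _ j

theorem frMap_cov {M N : ModuleCat.{u} R} (f : M ⟶ N) : frMap f ≫ cov N = cov M ≫ f :=
  ModuleCat.hom_ext (cov_frMap f)

theorem frMap_inc {M N : ModuleCat.{u} R} (f : M ⟶ N) : syMap f ≫ inc N = inc M ≫ frMap f :=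
  ModuleCat.hom_ext (inc_syMap f)

theorem resD_naturality {M N : ModuleCat.{u} R} (f : M ⟶ N) (n : ℕ) :
    frMap ((KR (n + 1)).map f) ≫ resD N n = resD M n ≫ frMap ((KR n).map f) := by
  unfold resD
  rw [← Category.assoc, frMap_cov, Category.assoc, Category.assoc]
  exact congrArg (cov _ ≫ ·) (frMap_inc ((KR n).map f))

/-- The map of resolutions. -/
noncomputable def resMap {M N : ModuleCat.{u} R} (f : M ⟶ N) : (res M).complex ⟶ (res N).complex where
  f n := frMap ((KR n).map f)
  comm' i j hij := by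
    obtain rfl : j + 1 = i := hij
    rw [res_d, res_d]
    exact resD_naturality f j

theorem resMap_π {M N : ModuleCat.{u} R} (f : M ⟶ N) :
    (resMap f).f 0 ≫ (res N).π.f 0 = (res M).π.f 0 ≫ f := by
  have h : ∀ X : ModuleCat.{u} R, (res X).π.f 0 = cov X := fun X => by
    dsimp only [res, NodeTor.resolution]
    exact ChainComplex.toSingle₀Equiv_symm_apply_f_zero _ _
  rw [h, h]
  exact frMap_cov f

theorem frMap_id (M : ModuleCat.{u} R) : frMap (𝟙 M) = 𝟙 (Fr M) :=
  ModuleCat.hom_ext (LinearMap.ext fun x => by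
    show Finsupp.mapDomain id x = x
    rw [Finsupp.mapDomain_id])

theorem frMap_comp {M N P : ModuleCat.{u} R} (f : M ⟶ N) (g : N ⟶ P) : frMap (f ≫ g) = frMap f ≫ frMap g :=
  ModuleCat.hom_ext (LinearMap.ext fun x => by
    show Finsupp.mapDomain (g.hom ∘ f.hom) x = _
    rw [Finsupp.mapDomain_comp]
    rfl)

/-- The resolution, functorially. -/
noncomputable def resF : ModuleCat.{u} R ⥤ ChainComplex (ModuleCat.{u} R) ℕ where
  obj N := (res N).complex
  map f := resMap f
  map_id N := HomologicalComplex.hom_ext _ _ fun n => by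
    show frMap _ = 𝟙 _
    rw [CategoryTheory.Functor.map_id, frMap_id]
  map_comp f g := HomologicalComplex.hom_ext _ _ fun n => by
    show frMap _ = frMap _ ≫ frMap _
    rw [CategoryTheory.Functor.map_comp, frMap_comp]

/-- The tensored resolution, as a functor of the two variables. -/
noncomputable def Φ : ModuleCat.{u} R × ModuleCat.{u} R ⥤ ChainComplex (ModuleCat.{u} R) ℕ where
  obj P := (((tensoringLeft (ModuleCat.{u} R)).obj P.1).mapHomologicalComplex _).obj (resF.obj P.2)
  map {P Q} h :=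
    (NatTrans.mapHomologicalComplex ((tensoringLeft (ModuleCat.{u} R)).map h.1) _).app (resF.obj P.2) ≫
      (((tensoringLeft (ModuleCat.{u} R)).obj Q.1).mapHomologicalComplex _).map (resF.map h.2)
  map_id P := HomologicalComplex.hom_ext _ _ fun n => by
    show (((tensoringLeft (ModuleCat.{u} R)).map (𝟙 P.1)).app _) ≫
      ((tensoringLeft (ModuleCat.{u} R)).obj P.1).map ((resF.map (𝟙 P.2)).f n) = 𝟙 _
    rw [CategoryTheory.Functor.map_id, CategoryTheory.Functor.map_id, NatTrans.id_app, HomologicalComplex.id_f,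
      CategoryTheory.Functor.map_id, Category.comp_id]
  map_comp {P Q S} f g := HomologicalComplex.hom_ext _ _ fun n => by
    show (((tensoringLeft (ModuleCat.{u} R)).map (f.1 ≫ g.1)).app _) ≫
        ((tensoringLeft (ModuleCat.{u} R)).obj S.1).map ((resF.map (f.2 ≫ g.2)).f n) =
      ((((tensoringLeft (ModuleCat.{u} R)).map f.1).app _) ≫
        ((tensoringLeft (ModuleCat.{u} R)).obj Q.1).map ((resF.map f.2).f n)) ≫
      ((((tensoringLeft (ModuleCat.{u} R)).map g.1).app _) ≫
        ((tensoringLeft (ModuleCat.{u} R)).obj S.1).map ((resF.map g.2).f n))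
    rw [CategoryTheory.Functor.map_comp, CategoryTheory.Functor.map_comp, NatTrans.comp_app,
      HomologicalComplex.comp_f, CategoryTheory.Functor.map_comp]
    simp only [Category.assoc, NatTrans.naturality_assoc]

/-- `Tor` is the homology of the tensored functorial resolution. -/
noncomputable def torIso (i : ℕ) :
    Functor.uncurry.obj (Tor (ModuleCat.{u} R) i) ≅
      Φ ⋙ HomologicalComplex.homologyFunctor (ModuleCat.{u} R) (ComplexShape.down ℕ) i :=
  NatIso.ofComponents
    (fun P => (res P.2).isoLeftDerivedObj ((tensoringLeft (ModuleCat.{u} R)).obj P.1) i)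
    fun {P Q} h => by
      have key : ((NatTrans.leftDerived ((tensoringLeft (ModuleCat.{u} R)).map h.1) i).app P.2) ≫
          ((res P.2).isoLeftDerivedObj ((tensoringLeft (ModuleCat.{u} R)).obj Q.1) i).hom =
          ((res P.2).isoLeftDerivedObj ((tensoringLeft (ModuleCat.{u} R)).obj P.1) i).hom ≫
            (HomologicalComplex.homologyFunctor (ModuleCat.{u} R) (ComplexShape.down ℕ) i).map
              ((NatTrans.mapHomologicalComplex ((tensoringLeft (ModuleCat.{u} R)).map h.1) _).app (res P.2).complex) := by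
        simp only [(res P.2).leftDerived_app_eq, Category.assoc, Iso.inv_hom_id, Category.comp_id]
      show (((NatTrans.leftDerived ((tensoringLeft (ModuleCat.{u} R)).map h.1) i).app P.2) ≫
        (((tensoringLeft (ModuleCat.{u} R)).obj Q.1).leftDerived i).map h.2) ≫ _ = _
      refine (Category.assoc _ _ _).trans ((congrArg (_ ≫ ·)
        (ProjectiveResolution.isoLeftDerivedObj_hom_naturality h.2 (res P.2) (res Q.2) (resMap h.2)
          (resMap_π h.2) ((tensoringLeft (ModuleCat.{u} R)).obj Q.1) i)).trans ((Category.assoc _ _ _).symm.trans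
            ((congrArg (· ≫ _) key).trans ((Category.assoc _ _ _).trans (congrArg (_ ≫ ·) ?_)))))
      exact ((HomologicalComplex.homologyFunctor (ModuleCat.{u} R) (ComplexShape.down ℕ) i).map_comp _ _).symm

section Homology

variable (S : ShortComplex (ModuleCat.{u} R)) {Q : ModuleCat.{u} R} (q : S.X₂ ⟶ Q) (hq : S.f ≫ q = 0)

/-- Homology into a cokernel of the first map. -/
noncomputable def hκ : S.homology ⟶ Q := S.homologyι ≫ S.descOpcycles q hq

theorem π_hκ : S.homologyπ ≫ hκ S q hq = S.iCycles ≫ q := by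
  rw [hκ, ShortComplex.homology_π_ι_assoc, ShortComplex.p_descOpcycles]

theorem hκ_comp (r : Q ⟶ S.X₃) (hr : q ≫ r = S.g) : hκ S q hq ≫ r = 0 := by
  rw [← cancel_epi S.homologyπ, ← Category.assoc, π_hκ, Category.assoc, hr, ShortComplex.iCycles_g, comp_zero]

theorem hκ_injective (hex : Function.Exact S.f.hom q.hom) : Function.Injective (hκ S q hq).hom := by
  have h1 : Function.Injective (S.descOpcycles q hq).hom := by
    refine (injective_iff_map_eq_zero _).2 fun w hw => ?_
    obtain ⟨z, rfl⟩ := (ModuleCat.epi_iff_surjective S.pOpcycles).1 inferInstance w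
    have hz : q.hom z = 0 := by
      rw [← hw]
      exact (congrArg (fun φ : S.X₂ ⟶ Q => φ.hom z) (S.p_descOpcycles q hq)).symm
    obtain ⟨y, rfl⟩ := (hex z).1 hz
    exact congrArg (fun φ : S.X₁ ⟶ S.opcycles => φ.hom y) S.f_pOpcycles
  exact h1.comp ((ModuleCat.mono_iff_injective S.homologyι).1 inferInstance)

theorem hκ_surjective (hs : Function.Surjective q.hom) (r : Q ⟶ S.X₃) (hr : q ≫ r = S.g) {y : Q} (hy : r.hom y = 0) :
    ∃ x, (hκ S q hq).hom x = y := by
  obtain ⟨z, rfl⟩ := hs y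
  have hz : S.g.hom z = 0 := by rw [← hr]; exact hy
  refine ⟨S.homologyπ.hom (S.moduleCatCyclesIso.inv.hom ⟨z, LinearMap.mem_ker.2 hz⟩), ?_⟩
  have e1 := congrArg (fun φ : S.cycles ⟶ Q => φ.hom (S.moduleCatCyclesIso.inv.hom ⟨z, LinearMap.mem_ker.2 hz⟩))
    (π_hκ S q hq)
  refine e1.trans (congrArg q.hom ?_)
  exact congrArg (fun φ : S.moduleCatLeftHomologyData.K ⟶ S.X₂ => φ.hom ⟨z, LinearMap.mem_ker.2 hz⟩)
    S.moduleCatCyclesIso_inv_iCycles

/-- Homology as the kernel of the induced map. -/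
noncomputable def hEquiv (hex : Function.Exact S.f.hom q.hom) (hs : Function.Surjective q.hom) (r : Q ⟶ S.X₃)
    (hr : q ≫ r = S.g) : S.homology ≃ₗ[R] LinearMap.ker r.hom :=
  LinearEquiv.ofBijective ((hκ S q hq).hom.codRestrict _ fun x =>
      LinearMap.mem_ker.2 (congrArg (fun φ : S.homology ⟶ S.X₃ => φ.hom x) (hκ_comp S q hq r hr)))
    ⟨fun a b hab => hκ_injective S q hq hex (congrArg Subtype.val hab), fun y => by
      obtain ⟨x, hx⟩ := hκ_surjective S q hq hs r hr (LinearMap.mem_ker.1 y.2)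
      exact ⟨x, Subtype.ext hx⟩⟩

theorem hκ_naturality {S' : ShortComplex (ModuleCat.{u} R)} {Q' : ModuleCat.{u} R} (q' : S'.X₂ ⟶ Q')
    (hq' : S'.f ≫ q' = 0) (φ : S ⟶ S') (v : Q ⟶ Q') (hv : φ.τ₂ ≫ q' = q ≫ v) :
    ShortComplex.homologyMap φ ≫ hκ S' q' hq' = hκ S q hq ≫ v := by
  rw [hκ, hκ, ShortComplex.homologyι_naturality_assoc, Category.assoc]
  congr 1
  rw [← cancel_epi S.pOpcycles, ShortComplex.p_opcyclesMap_assoc, ShortComplex.p_descOpcycles,
    ShortComplex.p_descOpcycles_assoc, hv]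

end Homology

/-- The short complex computing `Tor` in degree `j`. -/
noncomputable abbrev scF (i j k : ℕ) : ModuleCat.{u} R × ModuleCat.{u} R ⥤ ShortComplex (ModuleCat.{u} R) :=
  Φ ⋙ HomologicalComplex.shortComplexFunctor' (ModuleCat.{u} R) (ComplexShape.down ℕ) i j k

/-- The cokernel map. -/
noncomputable abbrev qMap (M N : ModuleCat.{u} R) :
    ModuleCat.of R (M ⊗[R] Fr N) ⟶ ModuleCat.of R (M ⊗[R] N) :=
  ModuleCat.ofHom ((cov N).hom.lTensor M)

theorem exact_qMap (P : ModuleCat.{u} R × ModuleCat.{u} R) (n : ℕ) :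
    Function.Exact ((resD P.2 n).hom.lTensor P.1) ((cov ((KR n).obj P.2)).hom.lTensor P.1) := by
  refine lTensor_exact P.1 (fun x => ⟨fun hx => ?_, ?_⟩) (isPres _).surj
  · obtain ⟨y, hy⟩ := ((isPres ((KR n).obj P.2)).exact x).1 hx
    obtain ⟨z, hz⟩ := (isPres ((KR (n + 1)).obj P.2)).surj y
    refine ⟨z, ?_⟩
    show (inc ((KR n).obj P.2)).hom ((cov ((KR (n + 1)).obj P.2)).hom z) = x
    rw [hz]
    exact hy
  · rintro ⟨z, rfl⟩
    exact (isPres ((KR n).obj P.2)).exact.apply_apply_eq_zero _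

theorem scF_f (i : ℕ) (k : ℕ) (P : ModuleCat.{u} R × ModuleCat.{u} R) :
    ((scF (i + 1) i k).obj P).f.hom = (resD P.2 i).hom.lTensor P.1 :=
  congrArg (fun φ : Fr ((KR (i + 1)).obj P.2) ⟶ Fr ((KR i).obj P.2) => φ.hom.lTensor P.1) (res_d P.2 i)

theorem scF_g (i : ℕ) (l : ℕ) (P : ModuleCat.{u} R × ModuleCat.{u} R) :
    ((scF l (i + 1) i).obj P).g.hom = (resD P.2 i).hom.lTensor P.1 :=
  congrArg (fun φ : Fr ((KR (i + 1)).obj P.2) ⟶ Fr ((KR i).obj P.2) => φ.hom.lTensor P.1) (res_d P.2 i)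

theorem qMap_naturality {M M' N N' : ModuleCat.{u} R} (f : M ⟶ M') (g : N ⟶ N') (x : M ⊗[R] Fr N) :
    (cov N').hom.lTensor M' ((frMap g).hom.lTensor M' (f.hom.rTensor (Fr N) x)) =
      TensorProduct.map f.hom g.hom ((cov N).hom.lTensor M x) := by
  rw [← LinearMap.comp_apply ((frMap g).hom.lTensor M'), LinearMap.lTensor_comp_rTensor]
  exact map_lTensor' _ _ _ _ _ (cov_frMap g) x

/-- The positive degrees. -/
noncomputable def succIso (n : ℕ) :
    scF (n + 2) (n + 1) n ⋙ ShortComplex.homologyFunctor (ModuleCat.{u} R) ≅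
      ((𝟭 (ModuleCat.{u} R)).prod (KR n)) ⋙ t1 :=
  NatIso.ofComponents
    (fun P => (hEquiv ((scF (n + 2) (n + 1) n).obj P) (qMap P.1 ((KR (n + 1)).obj P.2))
      (ModuleCat.hom_ext (LinearMap.ext fun x => by
        show (cov ((KR (n + 1)).obj P.2)).hom.lTensor P.1 (((scF (n + 2) (n + 1) n).obj P).f.hom x) = 0
        rw [scF_f]
        exact (exact_qMap P (n + 1)).apply_apply_eq_zero x))
      (by rw [scF_f]; exact exact_qMap P (n + 1))
      (LinearMap.lTensor_surjective _ (isPres _).surj)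
      (ModuleCat.ofHom ((inc ((KR n).obj P.2)).hom.lTensor P.1))
      (ModuleCat.hom_ext (by
        rw [scF_g]
        exact ((LinearMap.lTensor_comp P.1 (inc ((KR n).obj P.2)).hom (cov ((KR (n + 1)).obj P.2)).hom)).symm))).toModuleIso)
    fun {P Q} h => by
      refine ModuleCat.hom_ext (LinearMap.ext fun x => Subtype.ext ?_)
      exact congrArg (fun φ : ((scF (n + 2) (n + 1) n).obj P).homology ⟶
          ModuleCat.of R (Q.1 ⊗[R] (KR (n + 1)).obj Q.2) => φ.hom x)
        (hκ_naturality ((scF (n + 2) (n + 1) n).obj P) (qMap P.1 ((KR (n + 1)).obj P.2)) _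
          (qMap Q.1 ((KR (n + 1)).obj Q.2)) _ ((scF (n + 2) (n + 1) n).map h)
          (ModuleCat.ofHom (TensorProduct.map h.1.hom ((KR (n + 1)).map h.2).hom))
          (ModuleCat.hom_ext (LinearMap.ext fun z => qMap_naturality h.1 ((KR (n + 1)).map h.2) z)))

/-- The tensor bifunctor. -/
noncomputable def t0 : ModuleCat.{u} R × ModuleCat.{u} R ⥤ ModuleCat.{u} R where
  obj P := ModuleCat.of R (P.1 ⊗[R] P.2)
  map h := ModuleCat.ofHom (TensorProduct.map h.1.hom h.2.hom)
  map_id P := ModuleCat.hom_ext TensorProduct.map_id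
  map_comp f g := ModuleCat.hom_ext (TensorProduct.map_comp _ _ _ _)

theorem zero_f_q (P : ModuleCat.{u} R × ModuleCat.{u} R) :
    ((scF 1 0 0).obj P).f ≫ qMap P.1 P.2 = 0 :=
  ModuleCat.hom_ext (LinearMap.ext fun x => by
    show (cov P.2).hom.lTensor P.1 (((scF 1 0 0).obj P).f.hom x) = 0
    rw [scF_f]
    exact (exact_qMap P 0).apply_apply_eq_zero x)

/-- Degree zero. -/
noncomputable def zeroIso :
    scF 1 0 0 ⋙ ShortComplex.homologyFunctor (ModuleCat.{u} R) ≅ t0 :=
  NatIso.ofComponents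
    (fun P => ((hEquiv ((scF 1 0 0).obj P) (qMap P.1 P.2) (zero_f_q P)
      (by rw [scF_f]; exact exact_qMap P 0)
      (LinearMap.lTensor_surjective _ (isPres _).surj) 0
      (by
        rw [comp_zero]
        exact (((Φ.obj P)).shape 0 0 (by simp)).symm)).trans
      (LinearEquiv.ofTop _ (by rw [ModuleCat.hom_zero, LinearMap.ker_zero]))).toModuleIso)
    fun {P Q} h => by
      refine ModuleCat.hom_ext (LinearMap.ext fun x => ?_)
      have H := congrArg (fun φ : ((scF 1 0 0).obj P).homology ⟶ ModuleCat.of R (Q.1 ⊗[R] Q.2) => φ.hom x)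
        (hκ_naturality ((scF 1 0 0).obj P) (qMap P.1 P.2) (zero_f_q P)
          (qMap Q.1 Q.2) (zero_f_q Q) ((scF 1 0 0).map h)
          (ModuleCat.ofHom (TensorProduct.map h.1.hom h.2.hom))
          (ModuleCat.hom_ext (LinearMap.ext fun z => qMap_naturality h.1 h.2 z)))
      exact H

/-- The tensor bifunctor is symmetric. -/
noncomputable def t0Comm : (t0 (R := R)) ≅ CategoryTheory.Prod.swap _ _ ⋙ t0 :=
  NatIso.ofComponents (fun P => (TensorProduct.comm R P.1 P.2).toModuleIso) fun {P Q} h =>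
    ModuleCat.hom_ext (LinearMap.ext fun x => (TensorProduct.map_comm h.2.hom h.1.hom x).symm)

/-- Iterated dimension shifting. -/
noncomputable def shiftN : (n : ℕ) →
    (((𝟭 (ModuleCat.{u} R)).prod (KR n)) ⋙ t1 ≅ ((KL n).prod (𝟭 (ModuleCat.{u} R))) ⋙ t1)
  | 0 => Iso.refl _
  | n + 1 =>
    NatIso.ofComponents (fun _ => Iso.refl _) (fun _ => (Category.comp_id _).trans (Category.id_comp _).symm) ≪≫
      Functor.isoWhiskerLeft ((𝟭 (ModuleCat.{u} R)).prod (KR n)) (shiftIso (R := R)) ≪≫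
      NatIso.ofComponents (fun _ => Iso.refl _) (fun _ => (Category.comp_id _).trans (Category.id_comp _).symm) ≪≫
      Functor.isoWhiskerLeft (syF.prod (𝟭 (ModuleCat.{u} R))) (shiftN n) ≪≫
      NatIso.ofComponents (fun _ => Iso.refl _) (fun _ => (Category.comp_id _).trans (Category.id_comp _).symm)

/-- `Tor` is symmetric. -/
noncomputable def torSymm : (i : ℕ) →
    (Functor.uncurry.obj (Tor (ModuleCat.{u} R) i) ≅
      CategoryTheory.Prod.swap _ _ ⋙ Functor.uncurry.obj (Tor (ModuleCat.{u} R) i))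
  | 0 =>
    let e : Functor.uncurry.obj (Tor (ModuleCat.{u} R) 0) ≅ t0 :=
      torIso 0 ≪≫ Functor.isoWhiskerLeft Φ
        (HomologicalComplex.homologyFunctorIso' (ModuleCat.{u} R) (ComplexShape.down ℕ) 1 0 0 (by simp) (by simp)) ≪≫
        (Functor.associator _ _ _).symm ≪≫ zeroIso
    e ≪≫ t0Comm ≪≫ Functor.isoWhiskerLeft _ e.symm
  | n + 1 =>
    let e : Functor.uncurry.obj (Tor (ModuleCat.{u} R) (n + 1)) ≅ ((𝟭 (ModuleCat.{u} R)).prod (KR n)) ⋙ t1 :=
      torIso (n + 1) ≪≫ Functor.isoWhiskerLeft Φ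
        (HomologicalComplex.homologyFunctorIso' (ModuleCat.{u} R) (ComplexShape.down ℕ) (n + 2) (n + 1) n
          (by simp) (by simp)) ≪≫
        (Functor.associator _ _ _).symm ≪≫ succIso n
    e ≪≫ shiftN n ≪≫ Functor.isoWhiskerRight (NatIso.prod (klIso n) (Iso.refl _)) t1 ≪≫
      Functor.isoWhiskerLeft ((KR n).prod (𝟭 (ModuleCat.{u} R))) (betaIso (R := R)) ≪≫
      NatIso.ofComponents (fun _ => Iso.refl _) (fun _ => (Category.comp_id _).trans (Category.id_comp _).symm) ≪≫
      Functor.isoWhiskerLeft (CategoryTheory.Prod.swap _ _) e.symm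

/-- `Tor` is isomorphic to its flip. -/
theorem nonempty_flip (i : ℕ) :
    Nonempty (Tor (ModuleCat.{u} R) i ≅ (Tor (ModuleCat.{u} R) i).flip) :=
  ⟨Functor.fullyFaithfulUncurry.preimageIso (torSymm i ≪≫ (Functor.uncurryObjFlip _).symm)⟩

end Groth.Agent.CAlgOdd.TorSymm
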