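import Mathlib

/-!
# The snake isomorphism for two flat presentations
-/

set_option autoImplicit false
set_option maxHeartbeats 400000

universe u

open TensorProduct

namespace Groth.Agent.CAlgOdd.TorSymm

variable {R : Type u} [CommRing R]

theorem comm_lTensor {A B B' : Type u} [AddCommGroup A] [Module R A] [AddCommGroup B] [Module R B]
    [AddCommGroup B'] [Module R B'] (f : B →ₗ[R] B') (t : A ⊗[R] B) :
    TensorProduct.comm R A B' (f.lTensor A t) = f.rTensor A (TensorProduct.comm R A B t) := by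
  induction t using TensorProduct.induction_on with
  | zero => simp
  | tmul a b => simp
  | add a b ha hb => simp only [map_add, ha, hb]

theorem comm_rTensor {A B B' : Type u} [AddCommGroup A] [Module R A] [AddCommGroup B] [Module R B]
    [AddCommGroup B'] [Module R B'] (f : B →ₗ[R] B') (t : B ⊗[R] A) :
    TensorProduct.comm R B' A (f.rTensor A t) = f.lTensor A (TensorProduct.comm R B A t) := by
  induction t using TensorProduct.induction_on with
  | zero => simp
  | tmul a b => simp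
  | add a b ha hb => simp only [map_add, ha, hb]

theorem map_rTensor' {A A' A₁ A₁' B B' : Type u} [AddCommGroup A] [Module R A] [AddCommGroup A'] [Module R A']
    [AddCommGroup A₁] [Module R A₁] [AddCommGroup A₁'] [Module R A₁']
    [AddCommGroup B] [Module R B] [AddCommGroup B'] [Module R B'] (f : A →ₗ[R] A') (g : B →ₗ[R] B')
    (p : A →ₗ[R] A₁) (p' : A' →ₗ[R] A₁') (f₁ : A₁ →ₗ[R] A₁') (h : p' ∘ₗ f = f₁ ∘ₗ p) (t : A ⊗[R] B) :
    p'.rTensor B' (TensorProduct.map f g t) = TensorProduct.map f₁ g (p.rTensor B t) := by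
  induction t using TensorProduct.induction_on with
  | zero => simp
  | tmul a b =>
    have := LinearMap.congr_fun h a
    simp only [LinearMap.comp_apply] at this
    simp [this]
  | add a b ha hb => simp only [map_add, ha, hb]

theorem map_lTensor' {A A' A₁ A₁' B B' : Type u} [AddCommGroup A] [Module R A] [AddCommGroup A'] [Module R A']
    [AddCommGroup A₁] [Module R A₁] [AddCommGroup A₁'] [Module R A₁']
    [AddCommGroup B] [Module R B] [AddCommGroup B'] [Module R B'] (f : A →ₗ[R] A') (g : B →ₗ[R] B')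
    (p : A →ₗ[R] A₁) (p' : A' →ₗ[R] A₁') (f₁ : A₁ →ₗ[R] A₁') (h : p' ∘ₗ f = f₁ ∘ₗ p) (t : B ⊗[R] A) :
    p'.lTensor B' (TensorProduct.map g f t) = TensorProduct.map g f₁ (p.lTensor B t) := by
  induction t using TensorProduct.induction_on with
  | zero => simp
  | tmul a b =>
    have := LinearMap.congr_fun h b
    simp only [LinearMap.comp_apply] at this
    simp [this]
  | add a b ha hb => simp only [map_add, ha, hb]

/-- A flat presentation `0 → K → F → M → 0`. -/
structure IsPres {K F M : Type u} [AddCommGroup K] [Module R K] [AddCommGroup F] [Module R F]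
    [AddCommGroup M] [Module R M] (i : K →ₗ[R] F) (p : F →ₗ[R] M) : Prop where
  inj : Function.Injective i
  exact : Function.Exact i p
  surj : Function.Surjective p
  flat : Module.Flat R F

variable {K F M L G N : Type u} [AddCommGroup K] [Module R K] [AddCommGroup F] [Module R F]
  [AddCommGroup M] [Module R M] [AddCommGroup L] [Module R L] [AddCommGroup G] [Module R G]
  [AddCommGroup N] [Module R N] {i : K →ₗ[R] F} {p : F →ₗ[R] M} {j : L →ₗ[R] G} {q : G →ₗ[R] N}

/-- The snake relation between `M ⊗ L` and `N ⊗ K`. -/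
def Rel (i : K →ₗ[R] F) (p : F →ₗ[R] M) (j : L →ₗ[R] G) (q : G →ₗ[R] N) (x : M ⊗[R] L) (w : N ⊗[R] K) : Prop :=
  ∃ (y : F ⊗[R] L) (z : K ⊗[R] G), p.rTensor L y = x ∧ i.rTensor G z = j.lTensor F y ∧
    TensorProduct.comm R K N (q.lTensor K z) = w

theorem rel_add {x x' : M ⊗[R] L} {w w' : N ⊗[R] K} (h : Rel i p j q x w) (h' : Rel i p j q x' w') :
    Rel i p j q (x + x') (w + w') := by
  obtain ⟨y, z, h1, h2, h3⟩ := h
  obtain ⟨y', z', h1', h2', h3'⟩ := h'
  exact ⟨y + y', z + z', by rw [map_add, h1, h1'], by rw [map_add, map_add, h2, h2'],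
    by rw [map_add, map_add, h3, h3']⟩

theorem rel_smul {x : M ⊗[R] L} {w : N ⊗[R] K} (r : R) (h : Rel i p j q x w) :
    Rel i p j q (r • x) (r • w) := by
  obtain ⟨y, z, h1, h2, h3⟩ := h
  exact ⟨r • y, r • z, by rw [map_smul, h1], by rw [map_smul, map_smul, h2], by rw [map_smul, map_smul, h3]⟩

theorem rel_unique (hM : IsPres i p) (hN : IsPres j q) {x : M ⊗[R] L} {w w' : N ⊗[R] K}
    (h : Rel i p j q x w) (h' : Rel i p j q x w') : w = w' := by
  haveI := hN.flat
  obtain ⟨y, z, h1, h2, h3⟩ := h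
  obtain ⟨y', z', h1', h2', h3'⟩ := h'
  have hy : p.rTensor L (y - y') = 0 := by rw [map_sub, h1, h1', sub_self]
  obtain ⟨v, hv⟩ := (rTensor_exact L hM.exact hM.surj _).1 hy
  have hz : z - z' = j.lTensor K v := by
    refine Module.Flat.rTensor_preserves_injective_linearMap (M := G) i hM.inj ?_
    rw [map_sub, h2, h2', ← map_sub, ← hv, ← LinearMap.comp_apply, ← LinearMap.comp_apply]
    congr 1
    rw [LinearMap.lTensor_comp_rTensor, LinearMap.rTensor_comp_lTensor]
  rw [← h3, ← h3', ← sub_eq_zero, ← map_sub, ← map_sub, hz, ← LinearMap.comp_apply, ← LinearMap.lTensor_comp,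
    hN.exact.linearMap_comp_eq_zero, LinearMap.lTensor_zero, LinearMap.zero_apply, map_zero]

theorem rel_exists (hM : IsPres i p) {x : M ⊗[R] L} (hx : j.lTensor M x = 0) :
    ∃ w, Rel i p j q x w := by
  obtain ⟨y, rfl⟩ := LinearMap.rTensor_surjective L hM.surj x
  have h : p.rTensor G (j.lTensor F y) = 0 := by
    rw [← LinearMap.comp_apply, LinearMap.rTensor_comp_lTensor, ← LinearMap.lTensor_comp_rTensor,
      LinearMap.comp_apply, hx]
  obtain ⟨z, hz⟩ := (rTensor_exact G hM.exact hM.surj _).1 h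
  exact ⟨_, y, z, rfl, hz, rfl⟩

theorem rel_symm {x : M ⊗[R] L} {w : N ⊗[R] K} (h : Rel i p j q x w) : Rel j q i p w x := by
  obtain ⟨y, z, rfl, h2, rfl⟩ := h
  refine ⟨TensorProduct.comm R K G z, TensorProduct.comm R F L y, ?_, ?_, ?_⟩
  · exact (comm_lTensor q z).symm
  · rw [← comm_rTensor i z, h2, comm_lTensor]
  · rw [← comm_rTensor p y, ← TensorProduct.comm_symm, LinearEquiv.symm_apply_apply]

theorem rel_mem (hN : IsPres j q) {x : M ⊗[R] L} {w : N ⊗[R] K} (h : Rel i p j q x w) :
    i.lTensor N w = 0 := by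
  obtain ⟨y, z, hy, hz, -⟩ := rel_symm h
  rw [← hy, ← LinearMap.comp_apply, LinearMap.lTensor_comp_rTensor,
    ← LinearMap.rTensor_comp_lTensor, LinearMap.comp_apply, ← hz, ← LinearMap.comp_apply, ← LinearMap.rTensor_comp]
  rw [hN.exact.linearMap_comp_eq_zero, LinearMap.rTensor_zero, LinearMap.zero_apply]

theorem rel_map {K' F' M' L' G' N' : Type u} [AddCommGroup K'] [Module R K'] [AddCommGroup F'] [Module R F']
    [AddCommGroup M'] [Module R M'] [AddCommGroup L'] [Module R L'] [AddCommGroup G'] [Module R G']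
    [AddCommGroup N'] [Module R N'] {i' : K' →ₗ[R] F'} {p' : F' →ₗ[R] M'} {j' : L' →ₗ[R] G'} {q' : G' →ₗ[R] N'}
    (fK : K →ₗ[R] K') (fF : F →ₗ[R] F') (fM : M →ₗ[R] M') (gL : L →ₗ[R] L') (gG : G →ₗ[R] G') (gN : N →ₗ[R] N')
    (hi : i' ∘ₗ fK = fF ∘ₗ i) (hp : p' ∘ₗ fF = fM ∘ₗ p) (hj : j' ∘ₗ gL = gG ∘ₗ j) (hq : q' ∘ₗ gG = gN ∘ₗ q)
    {x : M ⊗[R] L} {w : N ⊗[R] K} (h : Rel i p j q x w) :
    Rel i' p' j' q' (TensorProduct.map fM gL x) (TensorProduct.map gN fK w) := by
  obtain ⟨y, z, rfl, h2, rfl⟩ := h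
  refine ⟨TensorProduct.map fF gL y, TensorProduct.map fK gG z, ?_, ?_, ?_⟩
  · exact map_rTensor' _ _ _ _ _ hp y
  · rw [map_rTensor' _ _ _ _ _ hi z, map_lTensor' _ _ _ _ _ hj y, h2]
  · rw [map_lTensor' _ _ _ _ _ hq z, TensorProduct.map_comm]

/-- The chosen partner under the snake relation. -/
noncomputable def snake (hM : IsPres i p) (j : L →ₗ[R] G) (q : G →ₗ[R] N) (x : LinearMap.ker (j.lTensor M)) :
    N ⊗[R] K :=
  (rel_exists (q := q) (j := j) hM (LinearMap.mem_ker.1 x.2)).choose

theorem rel_snake (hM : IsPres i p) (j : L →ₗ[R] G) (q : G →ₗ[R] N) (x : LinearMap.ker (j.lTensor M)) :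
    Rel i p j q x.1 (snake hM j q x) :=
  (rel_exists (q := q) (j := j) hM (LinearMap.mem_ker.1 x.2)).choose_spec

/-- The balancing isomorphism. -/
noncomputable def beta (hM : IsPres i p) (hN : IsPres j q) :
    LinearMap.ker (j.lTensor M) ≃ₗ[R] LinearMap.ker (i.lTensor N) where
  toFun x := ⟨snake hM j q x, LinearMap.mem_ker.2 (rel_mem hN (rel_snake hM j q x))⟩
  map_add' x y := Subtype.ext <| rel_unique hM hN (rel_snake hM j q (x + y))
    (rel_add (rel_snake hM j q x) (rel_snake hM j q y))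
  map_smul' r x := Subtype.ext <| rel_unique hM hN (rel_snake hM j q (r • x))
    (rel_smul r (rel_snake hM j q x))
  invFun w := ⟨snake hN i p w, LinearMap.mem_ker.2 (rel_mem hM (rel_snake hN i p w))⟩
  left_inv x := Subtype.ext <| rel_unique hN hM (rel_snake hN i p _) (rel_symm (rel_snake hM j q x))
  right_inv x := Subtype.ext <| rel_unique hM hN (rel_snake hM j q _) (rel_symm (rel_snake hN i p x))

theorem rel_beta (hM : IsPres i p) (hN : IsPres j q) (x : LinearMap.ker (j.lTensor M)) :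
    Rel i p j q x.1 (beta hM hN x).1 :=
  rel_snake hM j q x

/-- The two kernels inside `L ⊗ K` agree up to the braiding. -/
theorem ker_comm (hM : IsPres i p) (hN : IsPres j q) (t : L ⊗[R] K) :
    i.lTensor L t = 0 ↔ j.lTensor K (TensorProduct.comm R L K t) = 0 := by
  haveI := hM.flat
  haveI := hN.flat
  rw [← map_eq_zero_iff (j.rTensor F) (Module.Flat.rTensor_preserves_injective_linearMap (M := F) j hN.inj),
    ← map_eq_zero_iff (i.rTensor G) (Module.Flat.rTensor_preserves_injective_linearMap (M := G) i hM.inj),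
    ← comm_rTensor j t, ← comm_lTensor, LinearEquiv.map_eq_zero_iff,
    ← LinearMap.comp_apply, ← LinearMap.comp_apply, LinearMap.lTensor_comp_rTensor, LinearMap.rTensor_comp_lTensor]

end Groth.Agent.CAlgOdd.TorSymm
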